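import Mathlib

/-!
# Homogeneous pieces of a homogeneous ideal of a polynomial ring and the count of generators
-/

set_option autoImplicit false

namespace Groth.Agent.Helper2.Dubreil

open MvPolynomial

attribute [local instance] MvPolynomial.gradedAlgebra

section Comp

variable {σ : Type*} {R : Type*} [CommSemiring R]

lemma hcomp_mul_right (G f : MvPolynomial σ R) (d j : ℕ) (hf : f.IsHomogeneous d) :
    homogeneousComponent (j + d) (G * f) = homogeneousComponent j G * f := by
  classical
  have h := DirectSum.coe_decompose_mul_add_of_right_mem (homogeneousSubmodule σ R) (a := G)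
    (i := j) ((mem_homogeneousSubmodule d f).2 hf)
  rw [← decomposition.decompose'_apply, ← decomposition.decompose'_apply]
  exact h

lemma hcomp_mul_right_of_lt (G f : MvPolynomial σ R) (d j : ℕ) (hf : f.IsHomogeneous d)
    (hj : j < d) : homogeneousComponent j (G * f) = 0 := by
  classical
  have h := DirectSum.coe_decompose_mul_of_right_mem_of_not_le (homogeneousSubmodule σ R) (a := G)
    (n := j) ((mem_homogeneousSubmodule d f).2 hf) (not_le.2 hj)
  rw [← decomposition.decompose'_apply]
  exact h

end Comp

section LinAlg

variable {K : Type*} [Field K] {S : Type*} [AddCommGroup S] [Module K S]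

/-- a finite set completing a subspace `W` to a finite-dimensional subspace `U ≥ W` -/
lemma exists_finset_compl (W U : Submodule K S) (hWU : W ≤ U) [FiniteDimensional K U] :
    ∃ B : Finset S, (∀ x ∈ B, x ∈ U) ∧ W ⊔ Submodule.span K (B : Set S) = U ∧
      B.card + Module.finrank K W = Module.finrank K U := by
  classical
  obtain ⟨C', hC'⟩ := Submodule.exists_isCompl (W.comap U.subtype)
  have h1 : Module.finrank K (W.comap U.subtype) + Module.finrank K C' = Module.finrank K U :=
    Submodule.finrank_add_eq_of_isCompl hC'
  have h2 : Module.finrank K (W.comap U.subtype) = Module.finrank K W :=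
    (Submodule.comapSubtypeEquivOfLe hWU).finrank_eq
  let b := Module.finBasis K C'
  let e : Fin (Module.finrank K C') → S := fun i => ((b i : U) : S)
  have he : Function.Injective e := by
    intro i j hij
    apply b.injective
    exact Subtype.ext (Subtype.ext hij)
  refine ⟨Finset.univ.image e, ?_, ?_, ?_⟩
  · intro x hx
    obtain ⟨i, _, rfl⟩ := Finset.mem_image.1 hx
    exact (b i : U).2
  · have h3 : Submodule.span K ((Finset.univ.image e : Finset S) : Set S) = C'.map U.subtype := by
      rw [Finset.coe_image, Finset.coe_univ, Set.image_univ]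
      have : Set.range e = U.subtype '' (C'.subtype '' Set.range b) := by
        ext x
        simp only [Set.mem_range, Set.mem_image, exists_exists_eq_and, e]
        rfl
      rw [this, ← Submodule.map_span, ← Submodule.map_span, b.span_eq, Submodule.map_subtype_top]
    rw [h3]
    have h4 : (W.comap U.subtype).map U.subtype = W := by
      rw [Submodule.map_comap_subtype]
      exact inf_eq_right.2 hWU
    rw [← h4, ← Submodule.map_sup, hC'.sup_eq_top, Submodule.map_subtype_top]
  · rw [Finset.card_image_of_injective _ he, Finset.card_univ, Fintype.card_fin]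
    omega

end LinAlg

section Pieces

variable {σ : Type*} [Fintype σ] {K : Type*} [Field K]

/-- the degree-`t` piece of an ideal -/
noncomputable def piece (I : Ideal (MvPolynomial σ K)) (t : ℕ) : Submodule K (MvPolynomial σ K) :=
  (I.restrictScalars K) ⊓ homogeneousSubmodule σ K t

lemma mem_piece {I : Ideal (MvPolynomial σ K)} {t : ℕ} {f : MvPolynomial σ K} :
    f ∈ piece I t ↔ f ∈ I ∧ f.IsHomogeneous t := by
  rw [piece, Submodule.mem_inf, Submodule.restrictScalars_mem, mem_homogeneousSubmodule]

instance homogeneousSubmodule_finite (t : ℕ) :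
    Module.Finite K (homogeneousSubmodule σ K t) :=
  Module.Finite.iff_fg.2 (homogeneousSubmodule_fg σ K t)

instance piece_finite (I : Ideal (MvPolynomial σ K)) (t : ℕ) : Module.Finite K (piece I t) :=
  Submodule.finiteDimensional_of_le (inf_le_right : piece I t ≤ homogeneousSubmodule σ K t)

/-- `Σ_i x_i I_t`, a subspace of `I_{t+1}` -/
noncomputable def mpiece (I : Ideal (MvPolynomial σ K)) (t : ℕ) :
    Submodule K (MvPolynomial σ K) :=
  ⨆ i : σ, (piece I t).map (LinearMap.mulLeft K (X i : MvPolynomial σ K))

lemma mpiece_le (I : Ideal (MvPolynomial σ K)) (t : ℕ) : mpiece I t ≤ piece I (t + 1) := by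
  refine iSup_le fun i => ?_
  rintro _ ⟨f, hf, rfl⟩
  rw [SetLike.mem_coe, mem_piece] at hf
  rw [LinearMap.mulLeft_apply, mem_piece]
  refine ⟨I.mul_mem_left _ hf.1, ?_⟩
  rw [add_comm]
  exact (isHomogeneous_X K i).mul hf.2

/-- the number of new generators in degree `t` -/
noncomputable def gnum (I : Ideal (MvPolynomial σ K)) : ℕ → ℕ
  | 0 => Module.finrank K (piece I 0)
  | t + 1 => Module.finrank K (piece I (t + 1)) - Module.finrank K (mpiece I t)

/-- A homogeneous ideal is generated by `Σ_t gnum I t` elements. -/
theorem exists_generators (I : Ideal (MvPolynomial σ K))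
    (hom : ∀ f ∈ I, ∀ j, homogeneousComponent j f ∈ I) :
    ∃ T₀ : ℕ, ∀ T, T₀ ≤ T → ∃ G : Finset (MvPolynomial σ K),
      Ideal.span (G : Set (MvPolynomial σ K)) = I ∧
        G.card ≤ ∑ t ∈ Finset.range (T + 1), gnum I t := by
  classical
  -- choice of the new generators in each degree
  have hB : ∀ t, ∃ B : Finset (MvPolynomial σ K), (∀ x ∈ B, x ∈ piece I t) ∧
      (∀ J : Ideal (MvPolynomial σ K), (t ≠ 0 → piece I (t - 1) ≤ J.restrictScalars K) →
        (∀ x ∈ B, x ∈ J) → piece I t ≤ J.restrictScalars K) ∧ B.card = gnum I t := by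
    intro t
    cases t with
    | zero =>
      obtain ⟨B, hB1, hB2, hB3⟩ := exists_finset_compl (⊥ : Submodule K (MvPolynomial σ K))
        (piece I 0) bot_le
      refine ⟨B, hB1, ?_, ?_⟩
      · intro J _ hJ
        rw [← hB2, bot_sup_eq, Submodule.span_le]
        exact fun x hx => hJ x hx
      · rw [gnum, ← hB3, finrank_bot, add_zero]
    | succ t =>
      obtain ⟨B, hB1, hB2, hB3⟩ := exists_finset_compl (mpiece I t) (piece I (t + 1))
        (mpiece_le I t)
      refine ⟨B, hB1, ?_, ?_⟩
      · intro J hJ1 hJ
        have hJ1' : piece I t ≤ J.restrictScalars K := hJ1 (Nat.succ_ne_zero t)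
        rw [← hB2, sup_le_iff, Submodule.span_le]
        refine ⟨iSup_le fun i => ?_, fun x hx => hJ x hx⟩
        rintro _ ⟨f, hf, rfl⟩
        exact J.mul_mem_left _ (hJ1' hf)
      · rw [gnum, ← hB3, Nat.add_sub_cancel]
  choose B hB1 hB2 hB3 using hB
  -- a bound for the degrees of generators
  obtain ⟨F, hF⟩ : I.FG := (isNoetherianRing_iff_ideal_fg _).1 inferInstance I
  refine ⟨F.sup totalDegree, fun T hT => ⟨(Finset.range (T + 1)).biUnion B, ?_, ?_⟩⟩
  · apply le_antisymm
    · rw [Ideal.span_le]
      intro x hx
      rw [Finset.mem_coe, Finset.mem_biUnion] at hx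
      obtain ⟨t, _, hx⟩ := hx
      exact (mem_piece.1 (hB1 t x hx)).1
    · set J := Ideal.span (((Finset.range (T + 1)).biUnion B : Finset (MvPolynomial σ K)) :
        Set (MvPolynomial σ K)) with hJ
      have hle : ∀ t, t ≤ T → piece I t ≤ J.restrictScalars K := by
        intro t
        induction t with
        | zero =>
          intro _
          refine hB2 0 J (fun h => absurd rfl h) fun x hx => ?_
          exact Ideal.subset_span (Finset.mem_coe.2 (Finset.mem_biUnion.2
            ⟨0, Finset.mem_range.2 (Nat.succ_pos T), hx⟩))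
        | succ t ih =>
          intro ht
          refine hB2 (t + 1) J (fun _ => ih (Nat.le_of_succ_le ht)) fun x hx => ?_
          exact Ideal.subset_span (Finset.mem_coe.2 (Finset.mem_biUnion.2
            ⟨t + 1, Finset.mem_range.2 (Nat.lt_succ_of_le ht), hx⟩))
      rw [← hF, Ideal.span_le]
      intro f hf
      have hfI : f ∈ I := hF ▸ Ideal.subset_span hf
      rw [SetLike.mem_coe, ← sum_homogeneousComponent f]
      refine J.sum_mem fun j hj => ?_
      have hj' : j ≤ T := by
        have h1 : j ≤ f.totalDegree := Nat.lt_succ_iff.1 (Finset.mem_range.1 hj)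
        have h2 : f.totalDegree ≤ F.sup totalDegree := Finset.le_sup (f := totalDegree) hf
        omega
      exact hle j hj' (mem_piece.2 ⟨hom f hfI j, homogeneousComponent_isHomogeneous j f⟩)
  · refine le_trans Finset.card_biUnion_le ?_
    exact le_of_eq (Finset.sum_congr rfl fun t _ => hB3 t)

end Pieces

end Groth.Agent.Helper2.Dubreil
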