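import Mathlib
import Groth.Agent.Lib.Helper2.Dubreil.Hom

/-!
# Coefficientwise linear functionals on polynomials over a field extension
-/

set_option autoImplicit false

namespace Groth.Agent.Helper2.Dubreil

open MvPolynomial
open scoped TensorProduct

variable {σ : Type*} {k K : Type*} [Field k] [Field K] [Algebra k K]

/-- apply a `k`-linear functional `K → k` to every coefficient -/
noncomputable def Lam (lam : K →ₗ[k] k) : MvPolynomial σ K →ₗ[k] MvPolynomial σ k :=
  (TensorProduct.lid k (MvPolynomial σ k)).toLinearMap ∘ₗ lam.rTensor (MvPolynomial σ k) ∘ₗ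
    ((MvPolynomial.algebraTensorAlgEquiv (σ := σ) k K).symm.toLinearEquiv.restrictScalars
      k).toLinearMap

/-- the inclusion `k[x] → K[x]` -/
noncomputable abbrev iot : MvPolynomial σ k →+* MvPolynomial σ K :=
  MvPolynomial.map (algebraMap k K)

lemma Lam_smul_map (lam : K →ₗ[k] k) (c : K) (f : MvPolynomial σ k) :
    Lam lam (c • iot (K := K) f) = lam c • f := by
  rw [iot, ← algebraTensorAlgEquiv_tmul]
  change (TensorProduct.lid k (MvPolynomial σ k)) (lam.rTensor (MvPolynomial σ k)
    ((algebraTensorAlgEquiv (σ := σ) k K).symm (algebraTensorAlgEquiv k K (c ⊗ₜ[k] f)))) = _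
  rw [AlgEquiv.symm_apply_apply, LinearMap.rTensor_tmul, TensorProduct.lid_tmul]

lemma Lam_induction {P : MvPolynomial σ K → Prop} (h0 : P 0)
    (hs : ∀ (c : K) (f : MvPolynomial σ k), P (c • iot (K := K) f))
    (ha : ∀ x y, P x → P y → P (x + y)) (F : MvPolynomial σ K) : P F := by
  obtain ⟨x, rfl⟩ := (algebraTensorAlgEquiv (σ := σ) k K).surjective F
  induction x using TensorProduct.induction_on with
  | zero => simpa using h0
  | tmul c f => rw [algebraTensorAlgEquiv_tmul]; exact hs c f
  | add x y hx hy => rw [map_add]; exact ha _ _ hx hy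

lemma Lam_map_mul (lam : K →ₗ[k] k) (g : MvPolynomial σ k) (F : MvPolynomial σ K) :
    Lam lam (iot (K := K) g * F) = g * Lam lam F := by
  refine Lam_induction (k := k)
    (P := fun F => Lam lam (iot (K := K) g * F) = g * Lam lam F) ?_ ?_ ?_ F
  · simp
  · intro c f
    rw [mul_smul_comm, ← map_mul, Lam_smul_map, Lam_smul_map, mul_smul_comm]
  · intro x y hx hy
    rw [mul_add, map_add, map_add, hx, hy, mul_add]

lemma coeff_Lam (lam : K →ₗ[k] k) (m : σ →₀ ℕ) (F : MvPolynomial σ K) :
    coeff m (Lam lam F) = lam (coeff m F) := by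
  refine Lam_induction (k := k) (P := fun F => coeff m (Lam lam F) = lam (coeff m F)) ?_ ?_ ?_ F
  · simp
  · intro c f
    rw [Lam_smul_map, coeff_smul, coeff_smul, coeff_map, smul_eq_mul, smul_eq_mul,
      ← Algebra.commutes, ← Algebra.smul_def, map_smul, smul_eq_mul, mul_comm]
  · intro x y hx hy
    rw [map_add, coeff_add, coeff_add, map_add, hx, hy]

lemma Lam_homogeneousComponent (lam : K →ₗ[k] k) (j : ℕ) (F : MvPolynomial σ K) :
    homogeneousComponent j (Lam lam F) = Lam lam (homogeneousComponent j F) := by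
  ext m
  rw [coeff_homogeneousComponent, coeff_Lam, coeff_Lam, coeff_homogeneousComponent]
  split_ifs
  · rfl
  · rw [map_zero]

lemma Lam_isHomogeneous (lam : K →ₗ[k] k) {t : ℕ} {F : MvPolynomial σ K}
    (hF : F.IsHomogeneous t) : (Lam lam F).IsHomogeneous t := by
  intro m hm
  rw [coeff_Lam] at hm
  apply hF
  intro h
  rw [h, map_zero] at hm
  exact hm rfl

lemma eval_Lam (lam : K →ₗ[k] k) (p : σ → k) (F : MvPolynomial σ K) :
    eval p (Lam lam F) = lam (eval (fun i => algebraMap k K (p i)) F) := by
  refine Lam_induction (k := k)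
    (P := fun F => eval p (Lam lam F) = lam (eval (fun i => algebraMap k K (p i)) F)) ?_ ?_ ?_ F
  · simp
  · intro c f
    have h1 : eval (fun i => algebraMap k K (p i)) (iot (K := K) f) =
        algebraMap k K (eval p f) := by
      rw [iot, eval_map, eval₂_comp]
      rfl
    rw [Lam_smul_map, smul_eval, smul_eval, h1, ← Algebra.commutes, ← Algebra.smul_def, map_smul,
      smul_eq_mul, mul_comm]
  · intro x y hx hy
    rw [map_add, map_add, map_add, map_add, hx, hy]

/-- `Λ` maps the extended ideal into the ideal -/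
lemma Lam_mem (lam : K →ₗ[k] k) (I : Ideal (MvPolynomial σ k)) {F : MvPolynomial σ K}
    (hF : F ∈ Ideal.map (iot (σ := σ) (k := k) (K := K)) I) : Lam lam F ∈ I := by
  have key : ∀ G : MvPolynomial σ K, Lam lam (G * F) ∈ I := by
    rw [Ideal.map] at hF
    induction hF using Submodule.span_induction with
    | mem x hx =>
      obtain ⟨f, hf, rfl⟩ := hx
      intro G
      rw [mul_comm, Lam_map_mul]
      exact I.mul_mem_right _ hf
    | zero => intro G; simp
    | add x y _ _ hx hy => intro G; rw [mul_add, map_add]; exact add_mem (hx G) (hy G)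
    | smul G' x _ hx =>
      intro G
      rw [smul_eq_mul, ← mul_assoc]
      exact hx (G * G')
  have := key 1
  rwa [one_mul] at this

/-- expansion of a polynomial over `K` along a `k`-basis of `K` -/
lemma exists_expansion {ι : Type*} (bs : Module.Basis ι k K) (F : MvPolynomial σ K) :
    ∃ J : Finset ι, F = ∑ j ∈ J, bs j • iot (K := K) (Lam (bs.coord j) F) := by
  classical
  refine ⟨F.support.biUnion fun m => (bs.repr (coeff m F)).support, ?_⟩
  ext m
  rw [coeff_sum]
  simp_rw [coeff_smul, coeff_map, coeff_Lam, smul_eq_mul]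
  have h1 : ∀ j, bs j * algebraMap k K (bs.coord j (coeff m F)) = bs.repr (coeff m F) j • bs j := by
    intro j
    rw [Algebra.smul_def, mul_comm]
    rfl
  simp_rw [h1]
  by_cases hm : m ∈ F.support
  · have h2 : (bs.repr (coeff m F)).support ⊆
        F.support.biUnion fun m => (bs.repr (coeff m F)).support :=
      Finset.subset_biUnion_of_mem (fun m => (bs.repr (coeff m F)).support) hm
    rw [← Finset.sum_subset h2]
    · conv_lhs => rw [← bs.linearCombination_repr (coeff m F)]
      rw [Finsupp.linearCombination_apply, Finsupp.sum]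
    · intro j _ hj
      rw [Finsupp.notMem_support_iff.1 hj, zero_smul]
  · rw [notMem_support_iff.1 hm, map_zero]
    simp

end Groth.Agent.Helper2.Dubreil
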