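import Mathlib
import Groth.Agent.Lib.Helper2.Dubreil.Lam

/-!
# The generator count is invariant under extension of the base field
-/

set_option autoImplicit false

namespace Groth.Agent.Helper2.Dubreil

open MvPolynomial

variable {σ : Type*} [Fintype σ] {k K : Type*} [Field k] [Field K] [Algebra k K]

/-- the `K`-span of the image of a `k`-subspace of `k[x]` -/
noncomputable def ext (U : Submodule k (MvPolynomial σ k)) : Submodule K (MvPolynomial σ K) :=
  Submodule.span K (iot (K := K) '' (U : Set (MvPolynomial σ k)))

lemma ext_mono {U V : Submodule k (MvPolynomial σ k)} (h : U ≤ V) :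
    ext (K := K) U ≤ ext V :=
  Submodule.span_mono (Set.image_mono h)

lemma iot_mem_ext {U : Submodule k (MvPolynomial σ k)} {f : MvPolynomial σ k} (hf : f ∈ U) :
    iot (K := K) f ∈ ext (K := K) U :=
  Submodule.subset_span ⟨f, hf, rfl⟩

lemma ext_map_mulLeft (U : Submodule k (MvPolynomial σ k)) (i : σ) :
    ext (K := K) (U.map (LinearMap.mulLeft k (X i : MvPolynomial σ k))) =
      (ext U).map (LinearMap.mulLeft K (X i : MvPolynomial σ K)) := by
  rw [ext, ext, Submodule.map_span, Submodule.map_coe, Set.image_image, Set.image_image]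
  congr 1
  refine Set.image_congr fun f _ => ?_
  rw [LinearMap.mulLeft_apply, LinearMap.mulLeft_apply, map_mul, iot, map_X]

lemma ext_iSup {ι : Type*} (U : ι → Submodule k (MvPolynomial σ k)) :
    ext (K := K) (⨆ i, U i) = ⨆ i, ext (U i) := by
  apply le_antisymm
  · rw [ext, Submodule.span_le]
    rintro _ ⟨f, hf, rfl⟩
    refine Submodule.iSup_induction U (motive := fun f => iot (K := K) f ∈ ⨆ i, ext (K := K) (U i))
      hf ?_ ?_ ?_
    · intro i f hf
      exact (le_iSup (fun i => ext (K := K) (U i)) i) (iot_mem_ext hf)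
    · rw [map_zero]; exact zero_mem _
    · intro f g hf hg
      rw [map_add]; exact add_mem hf hg
  · exact iSup_le fun i => ext_mono (le_iSup U i)

lemma iot_smul (c : k) (f : MvPolynomial σ k) :
    iot (K := K) (c • f) = algebraMap k K c • iot (K := K) f := by
  rw [smul_eq_C_mul, smul_eq_C_mul, map_mul, iot, map_C]

lemma finrank_ext (U : Submodule k (MvPolynomial σ k)) [FiniteDimensional k U] :
    Module.finrank K (ext (K := K) U) = Module.finrank k U := by
  classical
  let u := Module.finBasis k U
  let v : Fin (Module.finrank k U) → MvPolynomial σ K := fun i => iot (K := K) (u i : MvPolynomial σ k)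
  have hu : LinearIndependent k (fun i => (u i : MvPolynomial σ k)) :=
    u.linearIndependent.map' U.subtype (Submodule.ker_subtype U)
  have hv : LinearIndependent K v := by
    rw [Fintype.linearIndependent_iff]
    intro c hc i
    rw [← Module.forall_dual_apply_eq_zero_iff k]
    intro lam
    have h1 := congrArg (Lam lam) hc
    rw [map_sum, map_zero] at h1
    simp_rw [v, Lam_smul_map] at h1
    exact (Fintype.linearIndependent_iff.1 hu) (fun i => lam (c i)) h1 i
  have hspan : ext (K := K) U = Submodule.span K (Set.range v) := by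
    apply le_antisymm
    · rw [ext, Submodule.span_le]
      rintro _ ⟨f, hf, rfl⟩
      have h1 := u.sum_repr ⟨f, hf⟩
      have h2 : f = ∑ i, u.repr ⟨f, hf⟩ i • (u i : MvPolynomial σ k) := by
        have := congrArg U.subtype h1
        rw [map_sum] at this
        simpa using this.symm
      rw [h2, map_sum]
      refine Submodule.sum_mem _ fun i _ => ?_
      rw [iot_smul]
      exact Submodule.smul_mem _ _ (Submodule.subset_span ⟨i, rfl⟩)
    · rw [Submodule.span_le]
      rintro _ ⟨i, rfl⟩
      exact iot_mem_ext (u i).2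
  rw [hspan, finrank_span_eq_card hv, Fintype.card_fin]

variable (I : Ideal (MvPolynomial σ k))

lemma piece_map (t : ℕ) :
    piece (Ideal.map (iot (σ := σ) (k := k) (K := K)) I) t = ext (piece I t) := by
  apply le_antisymm
  · intro F hF
    have hF' := mem_piece.1 hF
    obtain ⟨J, hJ⟩ := exists_expansion (Module.Basis.ofVectorSpace k K) F
    rw [hJ]
    refine Submodule.sum_mem _ fun j _ => Submodule.smul_mem _ _ (iot_mem_ext ?_)
    exact mem_piece.2 ⟨Lam_mem _ I hF'.1, Lam_isHomogeneous _ hF'.2⟩
  · rw [ext, Submodule.span_le]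
    rintro _ ⟨f, hf, rfl⟩
    have hf' := mem_piece.1 hf
    exact mem_piece.2 ⟨Ideal.mem_map_of_mem _ hf'.1, hf'.2.map _⟩

lemma mpiece_map (t : ℕ) :
    mpiece (Ideal.map (iot (σ := σ) (k := k) (K := K)) I) t = ext (mpiece I t) := by
  rw [mpiece, mpiece, ext_iSup, piece_map]
  congr 1
  funext i
  rw [ext_map_mulLeft]

instance mpiece_finite {F : Type*} [Field F] (J : Ideal (MvPolynomial σ F)) (t : ℕ) :
    Module.Finite F (mpiece J t) :=
  Submodule.finiteDimensional_of_le (mpiece_le J t)

theorem gnum_map (t : ℕ) :
    gnum (Ideal.map (iot (σ := σ) (k := k) (K := K)) I) t = gnum I t := by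
  cases t with
  | zero => rw [gnum, gnum, piece_map, finrank_ext]
  | succ t => rw [gnum, gnum, piece_map, mpiece_map, finrank_ext, finrank_ext]

end Groth.Agent.Helper2.Dubreil
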