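import Mathlib
import Groth.Agent.Lib.Helper2.Dubreil.Hom

/-!
# Dehomogenisation of `K[x₀,x₁,x₂]` modulo a linear form `x₀ + a x₁ + b x₂`
-/

set_option autoImplicit false

namespace Groth.Agent.Helper2.Dubreil

open MvPolynomial

variable {K : Type*} [Field K] (a b : K)

/-- the linear form `x₀ + a x₁ + b x₂` -/
noncomputable def ell : MvPolynomial (Fin 3) K := X 0 + C a * X 1 + C b * X 2

lemma ell_isHomogeneous : (ell a b).IsHomogeneous 1 := by
  refine ((isHomogeneous_X K 0).add ?_).add ?_
  · have := (isHomogeneous_C (Fin 3) a).mul (isHomogeneous_X K (1 : Fin 3))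
    simpa using this
  · have := (isHomogeneous_C (Fin 3) b).mul (isHomogeneous_X K (2 : Fin 3))
    simpa using this

lemma ell_ne_zero : ell a b ≠ 0 := by
  intro h
  have h1 := congrArg (coeff (Finsupp.single (0 : Fin 3) 1)) h
  rw [ell, coeff_add, coeff_add, coeff_C_mul, coeff_C_mul, coeff_X, coeff_X, coeff_X,
    if_pos rfl, coeff_zero] at h1
  have h2 : (Finsupp.single (1 : Fin 3) 1 : Fin 3 →₀ ℕ) ≠ Finsupp.single 0 1 := by
    intro h3
    have := congrArg (fun f => f 0) h3
    simp at this
  have h3 : (Finsupp.single (2 : Fin 3) 1 : Fin 3 →₀ ℕ) ≠ Finsupp.single 0 1 := by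
    intro h3
    have := congrArg (fun f => f 0) h3
    simp at this
  rw [if_neg h2, if_neg h3] at h1
  simp at h1

/-- the values of the coordinates under dehomogenisation -/
noncomputable def psiVal : Fin 3 → Polynomial K :=
  ![-(Polynomial.C a + Polynomial.C b * Polynomial.X), 1, Polynomial.X]

/-- dehomogenisation: `x₀ ↦ -(a + b Y)`, `x₁ ↦ 1`, `x₂ ↦ Y` -/
noncomputable def psi : MvPolynomial (Fin 3) K →ₐ[K] Polynomial K := aeval (psiVal a b)

lemma psi_X0 : psi a b (X 0) = -(Polynomial.C a + Polynomial.C b * Polynomial.X) := by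
  rw [psi, aeval_X]; rfl

lemma psi_X1 : psi a b (X 1) = 1 := by
  rw [psi, aeval_X]; rfl

lemma psi_X2 : psi a b (X 2) = Polynomial.X := by
  rw [psi, aeval_X]; rfl

lemma psi_C (c : K) : psi a b (C c) = Polynomial.C c := by
  rw [psi, aeval_C]; rfl

lemma psi_ell : psi a b (ell a b) = 0 := by
  rw [ell, map_add, map_add, map_mul, map_mul, psi_X0, psi_X1, psi_X2, psi_C, psi_C]
  ring

lemma natDegree_psiVal_le (i : Fin 3) : (psiVal a b i).natDegree ≤ 1 := by
  fin_cases i
  · change (-(Polynomial.C a + Polynomial.C b * Polynomial.X)).natDegree ≤ 1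
    rw [Polynomial.natDegree_neg]
    refine le_trans (Polynomial.natDegree_add_le _ _) (max_le ?_ ?_)
    · rw [Polynomial.natDegree_C]; exact Nat.zero_le _
    · exact le_trans (Polynomial.natDegree_C_mul_le _ _) Polynomial.natDegree_X_le
  · change (1 : Polynomial K).natDegree ≤ 1
    rw [Polynomial.natDegree_one]; exact Nat.zero_le _
  · change (Polynomial.X : Polynomial K).natDegree ≤ 1
    exact Polynomial.natDegree_X_le

lemma natDegree_psi_le {t : ℕ} {F : MvPolynomial (Fin 3) K} (hF : F.IsHomogeneous t) :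
    (psi a b F).natDegree ≤ t := by
  rw [← support_sum_monomial_coeff F, map_sum]
  refine Polynomial.natDegree_sum_le_of_forall_le _ _ fun m hm => ?_
  rw [psi, aeval_monomial]
  refine le_trans (Polynomial.natDegree_mul_le) ?_
  have h1 : (algebraMap K (Polynomial K) (coeff m F)).natDegree = 0 := Polynomial.natDegree_C _
  rw [h1, zero_add, Finsupp.prod]
  refine le_trans (Polynomial.natDegree_prod_le _ _) ?_
  have h2 : m.degree = t := hF.degree_eq_sum_deg_support hm ▸ rfl
  calc ∑ i ∈ m.support, (psiVal a b i ^ m i).natDegree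
      ≤ ∑ i ∈ m.support, m i := by
        refine Finset.sum_le_sum fun i _ => ?_
        refine le_trans (Polynomial.natDegree_pow_le) ?_
        calc m i * (psiVal a b i).natDegree ≤ m i * 1 :=
              Nat.mul_le_mul_left _ (natDegree_psiVal_le a b i)
          _ = m i := Nat.mul_one _
    _ = t := by rw [← h2]; rfl

end Groth.Agent.Helper2.Dubreil
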