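import Mathlib
import Groth.Agent.Lib.Helper2.Dubreil.Psi

/-!
# The kernel of the dehomogenisation on homogeneous pieces
-/

set_option autoImplicit false

namespace Groth.Agent.Helper2.Dubreil

open MvPolynomial

variable {K : Type*} [Field K] (a b : K)

/-- elimination of `x₀` -/
noncomputable def piVal : Fin 3 → MvPolynomial (Fin 2) K :=
  ![-(C a * X 0 + C b * X 1), X 0, X 1]

noncomputable def pi' : MvPolynomial (Fin 3) K →ₐ[K] MvPolynomial (Fin 2) K := aeval (piVal a b)

/-- `x₁' ↦ 1`, `x₂' ↦ Y` -/
noncomputable def phiVal : Fin 2 → Polynomial K := ![1, Polynomial.X]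

noncomputable def phi : MvPolynomial (Fin 2) K →ₐ[K] Polynomial K := aeval (phiVal (K := K))

lemma phi_comp_pi' : (phi (K := K)).comp (pi' a b) = psi a b := by
  apply MvPolynomial.algHom_ext
  intro i
  rw [AlgHom.comp_apply, pi', psi, aeval_X, aeval_X]
  fin_cases i
  · change phi (-(C a * X 0 + C b * X 1)) = -(Polynomial.C a + Polynomial.C b * Polynomial.X)
    rw [map_neg, map_add, map_mul, map_mul, phi, aeval_C, aeval_C, aeval_X, aeval_X]
    change -(Polynomial.C a * 1 + Polynomial.C b * Polynomial.X) = _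
    rw [mul_one]
  · change phi (X 0) = 1
    rw [phi, aeval_X]; rfl
  · change phi (X 1) = Polynomial.X
    rw [phi, aeval_X]; rfl

lemma pi'_isHomogeneous {t : ℕ} {F : MvPolynomial (Fin 3) K} (hF : F.IsHomogeneous t) :
    (pi' a b F).IsHomogeneous t := by
  have h := hF.aeval (piVal a b) (n := 1) (fun i => by
    fin_cases i
    · change (-(C a * X 0 + C b * X 1) : MvPolynomial (Fin 2) K).IsHomogeneous 1
      refine (IsHomogeneous.add ?_ ?_).neg
      · have := (isHomogeneous_C (Fin 2) a).mul (isHomogeneous_X K (0 : Fin 2))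
        simpa using this
      · have := (isHomogeneous_C (Fin 2) b).mul (isHomogeneous_X K (1 : Fin 2))
        simpa using this
    · exact isHomogeneous_X K (0 : Fin 2)
    · exact isHomogeneous_X K (1 : Fin 2))
  simpa [pi'] using h

/-- `F ≡ F(-(a x₁ + b x₂), x₁, x₂)` modulo `ell` -/
lemma sub_rename_pi'_mem (F : MvPolynomial (Fin 3) K) :
    F - rename Fin.succ (pi' a b F) ∈ Ideal.span {ell a b} := by
  induction F using MvPolynomial.induction_on with
  | C c =>
    have : rename Fin.succ (pi' a b (C c)) = (C c : MvPolynomial (Fin 3) K) := by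
      rw [pi', aeval_C]
      change rename Fin.succ (C c) = C c
      rw [rename_C]
    rw [this, sub_self]
    exact zero_mem _
  | add p q hp hq =>
    rw [map_add, map_add]
    have : p + q - (rename Fin.succ (pi' a b p) + rename Fin.succ (pi' a b q)) =
        (p - rename Fin.succ (pi' a b p)) + (q - rename Fin.succ (pi' a b q)) := by ring
    rw [this]
    exact add_mem hp hq
  | mul_X p i hp =>
    rw [map_mul, map_mul]
    have h1 : p * X i - rename Fin.succ (pi' a b p) * rename Fin.succ (pi' a b (X i)) =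
        (p - rename Fin.succ (pi' a b p)) * X i +
          rename Fin.succ (pi' a b p) * (X i - rename Fin.succ (pi' a b (X i))) := by ring
    rw [h1]
    refine add_mem (Ideal.mul_mem_right _ _ hp) (Ideal.mul_mem_left _ _ ?_)
    rw [pi', aeval_X]
    fin_cases i
    · change X 0 - rename Fin.succ (-(C a * X 0 + C b * X 1) : MvPolynomial (Fin 2) K) ∈ _
      rw [map_neg, map_add, map_mul, map_mul, rename_C, rename_C, rename_X, rename_X]
      have : (X 0 - -(C a * X (Fin.succ 0) + C b * X (Fin.succ 1)) : MvPolynomial (Fin 3) K) =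
          ell a b := by
        rw [ell]
        have e1 : (Fin.succ (0 : Fin 2) : Fin 3) = 1 := rfl
        have e2 : (Fin.succ (1 : Fin 2) : Fin 3) = 2 := rfl
        rw [e1, e2]
        ring
      rw [this]
      exact Ideal.mem_span_singleton_self _
    · change X 1 - rename Fin.succ (X 0 : MvPolynomial (Fin 2) K) ∈ _
      rw [rename_X]
      have e1 : (Fin.succ (0 : Fin 2) : Fin 3) = 1 := rfl
      rw [e1, sub_self]
      exact zero_mem _
    · change X 2 - rename Fin.succ (X 1 : MvPolynomial (Fin 2) K) ∈ _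
      rw [rename_X]
      have e2 : (Fin.succ (1 : Fin 2) : Fin 3) = 2 := rfl
      rw [e2, sub_self]
      exact zero_mem _

lemma phi_monomial (m : Fin 2 →₀ ℕ) (c : K) :
    phi (monomial m c) = Polynomial.C c * Polynomial.X ^ m 1 := by
  rw [phi, aeval_monomial, Finsupp.prod_fintype _ _ (fun i => pow_zero _), Fin.prod_univ_two]
  change Polynomial.C c * ((1 : Polynomial K) ^ m 0 * Polynomial.X ^ m 1) = _
  rw [one_pow, one_mul]

lemma coeff_phi (G : MvPolynomial (Fin 2) K) (l : ℕ) :
    Polynomial.coeff (phi G) l = ∑ m ∈ G.support, if m 1 = l then coeff m G else 0 := by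
  conv_lhs => rw [← support_sum_monomial_coeff G]
  rw [map_sum, Polynomial.finsetSum_coeff]
  refine Finset.sum_congr rfl fun m _ => ?_
  rw [phi_monomial, Polynomial.coeff_C_mul_X_pow]
  by_cases h : m 1 = l
  · rw [if_pos h, if_pos h.symm]
  · rw [if_neg h, if_neg (fun h' => h h'.symm)]

lemma phi_injective_of_isHomogeneous {t : ℕ} {G : MvPolynomial (Fin 2) K}
    (hG : G.IsHomogeneous t) (h : phi G = 0) : G = 0 := by
  classical
  ext m
  rw [coeff_zero]
  by_contra hm
  have hms : m ∈ G.support := mem_support_iff.2 hm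
  have hdeg : ∀ m' ∈ G.support, m' 0 + m' 1 = t := by
    intro m' hm'
    have h0 := hG.degree_eq_sum_deg_support hm'
    rw [Finset.sum_subset (Finset.subset_univ _)
      (fun i _ hi => Finsupp.notMem_support_iff.1 hi), Fin.sum_univ_two] at h0
    exact h0.symm
  have h1 := coeff_phi G (m 1)
  rw [h, Polynomial.coeff_zero, Finset.sum_eq_single m] at h1
  · rw [if_pos rfl] at h1
    exact hm h1.symm
  · intro m' hm' hne
    rw [if_neg]
    intro h2
    apply hne
    ext i
    fin_cases i
    · have e1 := hdeg m' hm'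
      have e2 := hdeg m hms
      change m' 0 = m 0
      omega
    · exact h2
  · intro h3
    exact absurd hms h3

/-- A homogeneous polynomial killed by the dehomogenisation is a multiple of `ell`. -/
theorem mem_span_ell_of_psi_eq_zero {t : ℕ} {F : MvPolynomial (Fin 3) K} (hF : F.IsHomogeneous t)
    (h : psi a b F = 0) : F ∈ Ideal.span {ell a b} := by
  have h1 : phi (pi' a b F) = 0 := by
    rw [← AlgHom.comp_apply, phi_comp_pi', h]
  have h2 := phi_injective_of_isHomogeneous (pi'_isHomogeneous a b hF) h1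
  have h3 := sub_rename_pi'_mem a b F
  rwa [h2, map_zero, sub_zero] at h3

theorem exists_eq_ell_mul_of_psi_eq_zero {t : ℕ} {F : MvPolynomial (Fin 3) K}
    (hF : F.IsHomogeneous (t + 1)) (h : psi a b F = 0) :
    ∃ F' : MvPolynomial (Fin 3) K, F'.IsHomogeneous t ∧ F = ell a b * F' := by
  obtain ⟨F', hF'⟩ := Ideal.mem_span_singleton'.1 (mem_span_ell_of_psi_eq_zero a b hF h)
  refine ⟨homogeneousComponent t F', homogeneousComponent_isHomogeneous t F', ?_⟩
  rw [mul_comm, ← hcomp_mul_right F' (ell a b) 1 t (ell_isHomogeneous a b), hF',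
    homogeneousComponent_of_mem ((mem_homogeneousSubmodule _ _).2 hF), if_pos rfl]

theorem eq_zero_of_psi_eq_zero {F : MvPolynomial (Fin 3) K} (hF : F.IsHomogeneous 0)
    (h : psi a b F = 0) : F = 0 := by
  obtain ⟨F', hF'⟩ := Ideal.mem_span_singleton'.1 (mem_span_ell_of_psi_eq_zero a b hF h)
  have h1 := hcomp_mul_right_of_lt F' (ell a b) 1 0 (ell_isHomogeneous a b) Nat.zero_lt_one
  rw [hF', homogeneousComponent_of_mem ((mem_homogeneousSubmodule _ _).2 hF), if_pos rfl] at h1
  exact h1

end Groth.Agent.Helper2.Dubreil
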