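import Mathlib
import Groth.Agent.Lib.Helper2.Dubreil.Ker

/-!
# The count of generators of a homogeneous ideal of `K[x₀,x₁,x₂]` with a regular linear form
-/

set_option autoImplicit false

namespace Groth.Agent.Helper2.Dubreil

open MvPolynomial

section LinAlg

variable {K : Type*} [Field K] {S P : Type*} [AddCommGroup S] [Module K S] [AddCommGroup P]
  [Module K P]

lemma finrank_map_add_finrank_inf_ker (f : S →ₗ[K] P) (U : Submodule K S) [FiniteDimensional K U] :
    Module.finrank K (U.map f) + Module.finrank K (U ⊓ LinearMap.ker f : Submodule K S) =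
      Module.finrank K U := by
  have h := LinearMap.finrank_range_add_finrank_ker (f ∘ₗ U.subtype)
  rw [LinearMap.range_comp, Submodule.range_subtype, LinearMap.ker_comp] at h
  rw [← h, ← Submodule.finrank_map_subtype_eq U (Submodule.comap U.subtype (LinearMap.ker f)),
    Submodule.map_comap_subtype]

lemma finrank_degreeLE (n : ℕ) : Module.finrank K (Polynomial.degreeLE K n) = n + 1 := by
  rw [← Polynomial.degreeLT_succ_eq_degreeLE, (Polynomial.degreeLTEquiv K (n + 1)).finrank_eq,
    Module.finrank_fin_fun]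

instance finite_degreeLE (n : ℕ) : FiniteDimensional K (Polynomial.degreeLE K n) := by
  rw [← Polynomial.degreeLT_succ_eq_degreeLE]
  exact Module.Finite.equiv (Polynomial.degreeLTEquiv K (n + 1)).symm

/-- multiplication by `Y` strictly enlarges a nonzero space of polynomials of bounded degree -/
lemma finrank_sup_mulX (Q : Submodule K (Polynomial K)) (t : ℕ) (hQ : Q ≤ Polynomial.degreeLE K t)
    (hne : Q ≠ ⊥) :
    Module.finrank K Q + 1 ≤
      Module.finrank K (Q ⊔ Q.map (LinearMap.mulLeft K (Polynomial.X : Polynomial K)) :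
        Submodule K (Polynomial K)) := by
  classical
  have hle : Q ⊔ Q.map (LinearMap.mulLeft K (Polynomial.X : Polynomial K)) ≤
      Polynomial.degreeLE K ((t + 1 : ℕ) : WithBot ℕ) := by
    refine sup_le (le_trans hQ (Polynomial.degreeLE_mono (by exact_mod_cast Nat.le_succ t))) ?_
    rintro _ ⟨q, hq, rfl⟩
    rw [LinearMap.mulLeft_apply, Polynomial.mem_degreeLE]
    have h1 : q.degree ≤ t := Polynomial.mem_degreeLE.1 (hQ hq)
    refine le_trans (Polynomial.degree_mul_le _ _) ?_
    have h2 : (Polynomial.X : Polynomial K).degree ≤ 1 := Polynomial.degree_X_le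
    calc (Polynomial.X : Polynomial K).degree + q.degree ≤ 1 + (t : WithBot ℕ) :=
          add_le_add h2 h1
      _ = ((t + 1 : ℕ) : WithBot ℕ) := by rw [add_comm]; rfl
  haveI : FiniteDimensional K
      (Q ⊔ Q.map (LinearMap.mulLeft K (Polynomial.X : Polynomial K)) : Submodule K _) :=
    Submodule.finiteDimensional_of_le hle
  obtain ⟨q₀, hq₀, hq₀ne⟩ := (Submodule.ne_bot_iff Q).1 hne
  let Pr : ℕ → Prop := fun n => ∃ q ∈ Q, q ≠ 0 ∧ q.natDegree = n
  have hdeg : ∀ q ∈ Q, q.natDegree ≤ t := fun q hq =>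
    Polynomial.natDegree_le_of_degree_le (Polynomial.mem_degreeLE.1 (hQ hq))
  have h0 : Pr q₀.natDegree := ⟨q₀, hq₀, hq₀ne, rfl⟩
  obtain ⟨q, hq, hqne, hqn⟩ := Nat.findGreatest_spec (P := Pr) (hdeg q₀ hq₀) h0
  have hmax : ∀ q' ∈ Q, q' ≠ 0 → q'.natDegree ≤ Nat.findGreatest Pr t := fun q' hq' hq'ne =>
    Nat.le_findGreatest (hdeg q' hq') ⟨q', hq', hq'ne, rfl⟩
  have hXq : Polynomial.X * q ∉ Q := by
    intro h
    have h1 := hmax _ h (mul_ne_zero Polynomial.X_ne_zero hqne)
    rw [Polynomial.natDegree_X_mul hqne, hqn] at h1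
    omega
  have hlt : Q < Q ⊔ Q.map (LinearMap.mulLeft K (Polynomial.X : Polynomial K)) := by
    refine lt_of_le_of_ne le_sup_left fun h => hXq ?_
    rw [h]
    exact Submodule.mem_sup_right ⟨q, hq, rfl⟩
  exact Submodule.finrank_lt_finrank_of_lt hlt

end LinAlg

variable {K : Type*} [Field K] (a b : K) (I : Ideal (MvPolynomial (Fin 3) K))

/-- the image of the degree `t` piece in `K[Y]` -/
noncomputable def PP (t : ℕ) : Submodule K (Polynomial K) :=
  (piece I t).map (psi a b).toLinearMap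

lemma PP_le_degreeLE (t : ℕ) : PP a b I t ≤ Polynomial.degreeLE K t := by
  rintro _ ⟨F, hF, rfl⟩
  rw [Polynomial.mem_degreeLE]
  exact Polynomial.degree_le_of_natDegree_le (natDegree_psi_le a b (mem_piece.1 hF).2)

lemma PP_le_succ (t : ℕ) : PP a b I t ≤ PP a b I (t + 1) := by
  rintro _ ⟨F, hF, rfl⟩
  have hF' := mem_piece.1 hF
  refine ⟨X 1 * F, mem_piece.2 ⟨I.mul_mem_left _ hF'.1, ?_⟩, ?_⟩
  · rw [add_comm]; exact (isHomogeneous_X K 1).mul hF'.2
  · change psi a b (X 1 * F) = psi a b F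
    rw [map_mul, psi_X1, one_mul]

lemma PP_mulX_le_succ (t : ℕ) :
    (PP a b I t).map (LinearMap.mulLeft K (Polynomial.X : Polynomial K)) ≤ PP a b I (t + 1) := by
  rintro _ ⟨_, ⟨F, hF, rfl⟩, rfl⟩
  have hF' := mem_piece.1 hF
  refine ⟨X 2 * F, mem_piece.2 ⟨I.mul_mem_left _ hF'.1, ?_⟩, ?_⟩
  · rw [add_comm]; exact (isHomogeneous_X K 2).mul hF'.2
  · change psi a b (X 2 * F) = Polynomial.X * psi a b F
    rw [map_mul, psi_X2]

lemma finrank_map_mulLeft_ell (U : Submodule K (MvPolynomial (Fin 3) K)) :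
    Module.finrank K (U.map (LinearMap.mulLeft K (ell a b))) = Module.finrank K U := by
  have hinj : Function.Injective (LinearMap.mulLeft K (ell a b)) := by
    intro x y hxy
    exact mul_left_cancel₀ (ell_ne_zero a b) hxy
  exact (Submodule.equivMapOfInjective _ hinj U).finrank_eq.symm

variable (hnzd : ∀ F, ell a b * F ∈ I → F ∈ I)

include hnzd in
lemma piece_inf_ker (t : ℕ) :
    (piece I (t + 1) ⊓ LinearMap.ker (psi a b).toLinearMap : Submodule K _) =
      (piece I t).map (LinearMap.mulLeft K (ell a b)) := by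
  apply le_antisymm
  · rintro F ⟨hF, hker⟩
    have hF' := mem_piece.1 hF
    obtain ⟨F', hF'h, rfl⟩ := exists_eq_ell_mul_of_psi_eq_zero a b hF'.2 (LinearMap.mem_ker.1 hker)
    exact ⟨F', mem_piece.2 ⟨hnzd F' hF'.1, hF'h⟩, rfl⟩
  · rintro _ ⟨F, hF, rfl⟩
    have hF' := mem_piece.1 hF
    refine ⟨mem_piece.2 ⟨I.mul_mem_left _ hF'.1, ?_⟩, ?_⟩
    · rw [add_comm]; exact (ell_isHomogeneous a b).mul hF'.2
    · rw [SetLike.mem_coe, LinearMap.mem_ker]
      change psi a b (ell a b * F) = 0
      rw [map_mul, psi_ell, zero_mul]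

include hnzd in
lemma finrank_piece_succ (t : ℕ) :
    Module.finrank K (piece I (t + 1)) =
      Module.finrank K (piece I t) + Module.finrank K (PP a b I (t + 1)) := by
  have h := finrank_map_add_finrank_inf_ker (psi a b).toLinearMap (piece I (t + 1))
  rw [piece_inf_ker a b I hnzd, finrank_map_mulLeft_ell] at h
  rw [PP, ← h, add_comm]

lemma finrank_piece_zero : Module.finrank K (piece I 0) = Module.finrank K (PP a b I 0) := by
  have h := finrank_map_add_finrank_inf_ker (psi a b).toLinearMap (piece I 0)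
  have h0 : (piece I 0 ⊓ LinearMap.ker (psi a b).toLinearMap : Submodule K _) = ⊥ := by
    rw [eq_bot_iff]
    rintro F ⟨hF, hker⟩
    exact eq_zero_of_psi_eq_zero a b (mem_piece.1 hF).2 (LinearMap.mem_ker.1 hker)
  rw [h0, finrank_bot, add_zero] at h
  rw [PP, h]

lemma ell_mul_mem_mpiece (t : ℕ) :
    (piece I t).map (LinearMap.mulLeft K (ell a b)) ≤ mpiece I t := by
  rintro _ ⟨F, hF, rfl⟩
  rw [LinearMap.mulLeft_apply, ell, add_mul, add_mul]
  have hi : ∀ i : Fin 3, X i * F ∈ mpiece I t := fun i =>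
    Submodule.mem_iSup_of_mem i ⟨F, hF, rfl⟩
  refine add_mem (add_mem (hi 0) ?_) ?_
  · have := (mpiece I t).smul_mem a (hi 1)
    rwa [smul_eq_C_mul, ← mul_assoc] at this
  · have := (mpiece I t).smul_mem b (hi 2)
    rwa [smul_eq_C_mul, ← mul_assoc] at this

lemma finrank_mpiece_ge (t : ℕ) :
    Module.finrank K (piece I t) +
      Module.finrank K (PP a b I t ⊔ (PP a b I t).map
        (LinearMap.mulLeft K (Polynomial.X : Polynomial K)) : Submodule K _) ≤
      Module.finrank K (mpiece I t) := by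
  haveI : FiniteDimensional K (mpiece I t) := Submodule.finiteDimensional_of_le (mpiece_le I t)
  have h := finrank_map_add_finrank_inf_ker (psi a b).toLinearMap (mpiece I t)
  have h1 : (piece I t).map (LinearMap.mulLeft K (ell a b)) ≤
      (mpiece I t ⊓ LinearMap.ker (psi a b).toLinearMap : Submodule K _) := by
    refine le_inf (ell_mul_mem_mpiece a b I t) ?_
    rintro _ ⟨F, _, rfl⟩
    rw [LinearMap.mem_ker]
    change psi a b (ell a b * F) = 0
    rw [map_mul, psi_ell, zero_mul]
  have h2 : (PP a b I t ⊔ (PP a b I t).map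
      (LinearMap.mulLeft K (Polynomial.X : Polynomial K)) : Submodule K _) ≤
      (mpiece I t).map (psi a b).toLinearMap := by
    refine sup_le ?_ ?_
    · rintro _ ⟨F, hF, rfl⟩
      refine ⟨X 1 * F, Submodule.mem_iSup_of_mem 1 ⟨F, hF, rfl⟩, ?_⟩
      change psi a b (X 1 * F) = psi a b F
      rw [map_mul, psi_X1, one_mul]
    · rintro _ ⟨_, ⟨F, hF, rfl⟩, rfl⟩
      refine ⟨X 2 * F, Submodule.mem_iSup_of_mem 2 ⟨F, hF, rfl⟩, ?_⟩
      change psi a b (X 2 * F) = Polynomial.X * psi a b F
      rw [map_mul, psi_X2]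
  haveI : FiniteDimensional K ((mpiece I t).map (psi a b).toLinearMap) := inferInstance
  have h3 := Submodule.finrank_mono h1
  have h4 := Submodule.finrank_mono h2
  rw [finrank_map_mulLeft_ell] at h3
  omega

end Groth.Agent.Helper2.Dubreil
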