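import Mathlib
import Groth.Agent.Lib.Helper2.Dubreil.Count

/-!
# The bound `Σ gnum ≤ α + 1`
-/

set_option autoImplicit false

namespace Groth.Agent.Helper2.Dubreil

open MvPolynomial

variable {K : Type*} [Field K] (a b : K) (I : Ideal (MvPolynomial (Fin 3) K))
  (hnzd : ∀ F, ell a b * F ∈ I → F ∈ I)

lemma mpiece_eq_bot {σ : Type*} [Fintype σ] (J : Ideal (MvPolynomial σ K)) (t : ℕ)
    (h : piece J t = ⊥) : mpiece J t = ⊥ := by
  rw [mpiece, h]
  simp

lemma gnum_eq_zero {σ : Type*} [Fintype σ] (J : Ideal (MvPolynomial σ K)) (t : ℕ)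
    (h : piece J t = ⊥) : gnum J t = 0 := by
  cases t with
  | zero => rw [gnum, h, finrank_bot]
  | succ t => rw [gnum, h, finrank_bot, Nat.zero_sub]

include hnzd in
lemma gnum_alpha (α : ℕ) (hmin : ∀ t < α, piece I t = ⊥) :
    gnum I α = Module.finrank K (PP a b I α) := by
  cases α with
  | zero => rw [gnum, finrank_piece_zero a b I]
  | succ s =>
    have h1 := hmin s (Nat.lt_succ_self s)
    rw [gnum, mpiece_eq_bot I s h1, finrank_bot, Nat.sub_zero, finrank_piece_succ a b I hnzd, h1,
      finrank_bot, zero_add]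

include hnzd in
theorem sum_gnum_le (α : ℕ) (hα : piece I α ≠ ⊥) (hmin : ∀ t < α, piece I t = ⊥) :
    ∀ T, α ≤ T → ∑ t ∈ Finset.range (T + 1), gnum I t ≤ α + 1 := by
  have hPα : PP a b I α ≠ ⊥ := by
    intro h
    have h1 := gnum_alpha a b I hnzd α hmin
    rw [h, finrank_bot] at h1
    cases α with
    | zero =>
      rw [gnum] at h1
      exact hα (Submodule.finrank_eq_zero.1 h1)
    | succ s =>
      have h2 := hmin s (Nat.lt_succ_self s)
      rw [gnum, mpiece_eq_bot I s h2, finrank_bot, Nat.sub_zero] at h1
      exact hα (Submodule.finrank_eq_zero.1 h1)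
  have hP : ∀ T, α ≤ T → PP a b I T ≠ ⊥ := by
    intro T hT
    induction T, hT using Nat.le_induction with
    | base => exact hPα
    | succ T _ ih =>
      intro h
      exact ih (le_bot_iff.1 (h ▸ PP_le_succ a b I T))
  have hmain : ∀ T, α ≤ T →
      ∑ t ∈ Finset.range (T + 1), gnum I t + (T + 1) ≤ α + 1 + Module.finrank K (PP a b I T) := by
    intro T hT
    induction T, hT using Nat.le_induction with
    | base =>
      rw [Finset.sum_range_succ, Finset.sum_eq_zero, zero_add, gnum_alpha a b I hnzd α hmin]
      · omega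
      · intro t ht
        exact gnum_eq_zero I t (hmin t (Finset.mem_range.1 ht))
    | succ T hT ih =>
      rw [Finset.sum_range_succ]
      have h1 := finrank_piece_succ a b I hnzd T
      have h2 := finrank_mpiece_ge a b I T
      have h3 := finrank_sup_mulX (PP a b I T) T (PP_le_degreeLE a b I T) (hP T hT)
      have h4 : Module.finrank K (mpiece I T) ≤ Module.finrank K (piece I (T + 1)) :=
        Submodule.finrank_mono (mpiece_le I T)
      have h5 : gnum I (T + 1) + Module.finrank K (mpiece I T) =
          Module.finrank K (piece I (T + 1)) := by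
        rw [gnum]; omega
      omega
  intro T hT
  have h1 := hmain T hT
  have h2 : Module.finrank K (PP a b I T) ≤ T + 1 := by
    have := Submodule.finrank_mono (PP_le_degreeLE a b I T)
    rwa [finrank_degreeLE] at this
  omega

end Groth.Agent.Helper2.Dubreil
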