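import Mathlib
import Groth.Agent.Lib.Helper2.Dubreil.Bound
import Groth.Agent.Lib.Helper2.Dubreil.BaseChange

/-!
# Dubreil's bound for the number of generators of the ideal of points in the plane
-/

set_option autoImplicit false

namespace Groth.Agent.Helper2.Dubreil

open MvPolynomial

variable {k : Type*} [Field k]

/-- the transcendental linear form does not vanish at a nonzero rational point -/
lemma eval_ell_ne_zero (p : Fin 3 → k) (hp : p ≠ 0) :
    eval (fun i => algebraMap k (RatFunc k) (p i))
      (ell (RatFunc.X : RatFunc k) (RatFunc.X ^ 2)) ≠ 0 := by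
  intro h
  rw [ell, map_add, map_add, map_mul, map_mul, eval_X, eval_X, eval_X, eval_C, eval_C] at h
  have h1 : algebraMap k (RatFunc k) (p 0) + RatFunc.X * algebraMap k (RatFunc k) (p 1) +
      RatFunc.X ^ 2 * algebraMap k (RatFunc k) (p 2) =
      algebraMap (Polynomial k) (RatFunc k)
        (Polynomial.C (p 0) + Polynomial.X * Polynomial.C (p 1) +
          Polynomial.X ^ 2 * Polynomial.C (p 2)) := by
    rw [map_add, map_add, map_mul, map_mul, map_pow, RatFunc.algebraMap_X, RatFunc.algebraMap_C,
      RatFunc.algebraMap_C, RatFunc.algebraMap_C]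
    rfl
  rw [h1] at h
  have h2 : (Polynomial.C (p 0) + Polynomial.X * Polynomial.C (p 1) +
      Polynomial.X ^ 2 * Polynomial.C (p 2) : Polynomial k) = 0 :=
    (map_eq_zero_iff _ (RatFunc.algebraMap_injective k)).1 h
  apply hp
  funext i
  have c0 := congrArg (fun q => Polynomial.coeff q 0) h2
  have c1 := congrArg (fun q => Polynomial.coeff q 1) h2
  have c2 := congrArg (fun q => Polynomial.coeff q 2) h2
  simp [Polynomial.coeff_X, Polynomial.coeff_C] at c0 c1 c2
  fin_cases i
  · exact c0
  · exact c1
  · exact c2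

/-- **Dubreil's bound**: the homogeneous ideal of a finite set of points of the projective plane
lying on a curve of degree `d` is generated by at most `d + 1` elements. -/
theorem dubreil (Z : Finset (Fin 3 → k)) (hZ : ∀ p ∈ Z, p ≠ 0)
    (I : Ideal (MvPolynomial (Fin 3) k))
    (hI : ∀ f : MvPolynomial (Fin 3) k, f ∈ I ↔
      ∀ p ∈ Z, ∀ j : ℕ, MvPolynomial.eval p (MvPolynomial.homogeneousComponent j f) = 0)
    (d : ℕ) (hf : ∃ f ∈ I, MvPolynomial.IsHomogeneous f d ∧ f ≠ 0) :
    Submodule.spanFinrank I ≤ d + 1 := by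
  classical
  -- `I` is homogeneous
  have hom : ∀ f ∈ I, ∀ j, homogeneousComponent j f ∈ I := by
    intro f hfI j
    rw [hI]
    intro p hp s
    rw [homogeneousComponent_of_mem (homogeneousComponent_mem j f)]
    split_ifs
    · exact (hI f).1 hfI p hp j
    · rw [map_zero]
  -- the extended ideal
  set IK : Ideal (MvPolynomial (Fin 3) (RatFunc k)) :=
    Ideal.map (iot (σ := Fin 3) (k := k) (K := RatFunc k)) I with hIK
  -- the extended ideal is the vanishing ideal over `K`
  have hmemK : ∀ F : MvPolynomial (Fin 3) (RatFunc k), F ∈ IK ↔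
      ∀ p ∈ Z, ∀ j : ℕ, eval (fun i => algebraMap k (RatFunc k) (p i))
        (homogeneousComponent j F) = 0 := by
    intro F
    constructor
    · intro hF p hp j
      rw [← Module.forall_dual_apply_eq_zero_iff k]
      intro lam
      rw [← eval_Lam, ← Lam_homogeneousComponent]
      exact (hI _).1 (Lam_mem lam I hF) p hp j
    · intro hF
      obtain ⟨J, hJ⟩ := exists_expansion (Module.Basis.ofVectorSpace k (RatFunc k)) F
      rw [hJ]
      refine IK.sum_mem fun j _ => ?_
      rw [smul_eq_C_mul]
      refine IK.mul_mem_left _ (Ideal.mem_map_of_mem _ ?_)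
      rw [hI]
      intro p hp s
      rw [Lam_homogeneousComponent, eval_Lam, hF p hp s, map_zero]
  -- the transcendental linear form is regular modulo the extended ideal
  have hnzd : ∀ F, ell (RatFunc.X : RatFunc k) (RatFunc.X ^ 2) * F ∈ IK → F ∈ IK := by
    intro F hF
    rw [hmemK] at hF ⊢
    intro p hp j
    have h1 := hF p hp (j + 1)
    rw [mul_comm, hcomp_mul_right F _ 1 j (ell_isHomogeneous _ _), map_mul] at h1
    exact (mul_eq_zero.1 h1).resolve_right (eval_ell_ne_zero p (hZ p hp))
  -- the initial degree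
  obtain ⟨f, hfI, hfd, hf0⟩ := hf
  have hex : ∃ t, piece IK t ≠ ⊥ := by
    refine ⟨d, fun h => ?_⟩
    have h1 : iot (K := RatFunc k) f ∈ piece IK d :=
      mem_piece.2 ⟨Ideal.mem_map_of_mem _ hfI, hfd.map _⟩
    rw [h, Submodule.mem_bot] at h1
    exact hf0 ((map_eq_zero_iff _ (map_injective _ (algebraMap k (RatFunc k)).injective)).1 h1)
  have hαd : Nat.find hex ≤ d := by
    refine Nat.find_min' hex fun h => ?_
    have h1 : iot (K := RatFunc k) f ∈ piece IK d :=
      mem_piece.2 ⟨Ideal.mem_map_of_mem _ hfI, hfd.map _⟩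
    rw [h, Submodule.mem_bot] at h1
    exact hf0 ((map_eq_zero_iff _ (map_injective _ (algebraMap k (RatFunc k)).injective)).1 h1)
  have hbound := sum_gnum_le (RatFunc.X : RatFunc k) (RatFunc.X ^ 2) IK hnzd (Nat.find hex)
    (Nat.find_spec hex) (fun t ht => not_not.1 (Nat.find_min hex ht))
  -- generators over `k`
  obtain ⟨T₀, hT₀⟩ := exists_generators I hom
  obtain ⟨G, hG, hGcard⟩ := hT₀ (max T₀ (Nat.find hex)) (le_max_left _ _)
  have h1 : ∑ t ∈ Finset.range (max T₀ (Nat.find hex) + 1), gnum I t =
      ∑ t ∈ Finset.range (max T₀ (Nat.find hex) + 1), gnum IK t :=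
    Finset.sum_congr rfl fun t _ => (gnum_map I t).symm
  have h2 := hbound (max T₀ (Nat.find hex)) (le_max_right _ _)
  have h3 : Submodule.spanFinrank I ≤ G.card := by
    rw [← hG]
    have := Submodule.spanFinrank_span_le_ncard_of_finite (R := MvPolynomial (Fin 3) k)
      (Finset.finite_toSet G)
    rwa [Set.ncard_coe_finset] at this
  omega

end Groth.Agent.Helper2.Dubreil
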